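import Cfsg.Prelude.Def_ClassicalGeometry
import Cfsg.Agent.Lib.Conj.Unitary

/-!
Conjugacy of transvections, and quasi-reflections fixing a given isometry.
-/

set_option autoImplicit false

namespace CfsgLib.UnitTransv

open Matrix Module

variable {K : Type*} [Field K]

theorem exists_extend_equiv {V : Type*} [AddCommGroup V] [Module K V] [FiniteDimensional K V]
    (X Y : Submodule K V) (e : X ≃ₗ[K] Y) : ∃ g : V ≃ₗ[K] V, ∀ x : X, g x = e x := by
  obtain ⟨C, hC⟩ := Submodule.exists_isCompl X
  obtain ⟨D, hD⟩ := Submodule.exists_isCompl Y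
  have h1 := Submodule.finrank_add_eq_of_isCompl hC
  have h2 := Submodule.finrank_add_eq_of_isCompl hD
  have h3 := e.finrank_eq
  let c : C ≃ₗ[K] D := LinearEquiv.ofFinrankEq C D (by omega)
  refine ⟨(Submodule.prodEquivOfIsCompl X C hC).symm ≪≫ₗ (e.prodCongr c) ≪≫ₗ
    Submodule.prodEquivOfIsCompl Y D hD, fun x => ?_⟩
  simp

variable {n : ℕ}

/-- The functional and centre of a transvection. -/
theorem exists_transvection_data (s : Matrix (Fin n) (Fin n) K) (hs : Cfsg.IsTransvection s) :
    ∃ (a u : Fin n → K) (φ : (Fin n → K) →ₗ[K] K), a ≠ 0 ∧ φ u = 1 ∧ φ a = 0 ∧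
      ∀ x, s.mulVec x = x + φ x • a := by
  obtain ⟨hr, h2⟩ := hs
  obtain ⟨u, hu⟩ : ∃ u, (s - 1).mulVec u ≠ 0 := by
    by_contra! h
    have : (s - 1) = 0 := Matrix.ext_iff_mulVec.mpr fun v => by rw [h v, Matrix.zero_mulVec]
    rw [this, Matrix.rank_zero] at hr
    omega
  set a := (s - 1).mulVec u
  have hr' : finrank K (LinearMap.range (s - 1).mulVecLin) = 1 := hr
  have hspan : LinearMap.range (s - 1).mulVecLin = K ∙ a := by
    symm
    refine Submodule.eq_of_le_of_finrank_eq ?_ ?_
    · rw [Submodule.span_singleton_le_iff_mem]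
      exact ⟨u, rfl⟩
    · rw [finrank_span_singleton hu, hr']
  let T : (Fin n → K) →ₗ[K] (K ∙ a) := (s - 1).mulVecLin.codRestrict _ fun x => hspan ▸ ⟨x, rfl⟩
  let e := LinearEquiv.toSpanNonzeroSingleton K (Fin n → K) a hu
  let φ : (Fin n → K) →ₗ[K] K := e.symm.toLinearMap.comp T
  have hφ : ∀ x, φ x • a = (s - 1).mulVec x := fun x => by
    have := congrArg Subtype.val (e.apply_symm_apply (T x))
    exact this
  have hinj : ∀ c d : K, c • a = d • a → c = d := fun c d h => smul_left_injective K hu h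
  refine ⟨a, u, φ, hu, hinj _ _ (by rw [hφ, one_smul]), hinj _ _ ?_, fun x => ?_⟩
  · rw [hφ, zero_smul, show a = (s - 1).mulVec u from rfl, Matrix.mulVec_mulVec, h2,
      Matrix.zero_mulVec]
  · rw [hφ, Matrix.sub_mulVec, Matrix.one_mulVec]; abel

/-- Any two transvections are conjugate in `GL n`. -/
theorem exists_conj (s t : Matrix (Fin n) (Fin n) K) (hs : Cfsg.IsTransvection s)
    (ht : Cfsg.IsTransvection t) :
    ∃ g : GL (Fin n) K, (g : Matrix (Fin n) (Fin n) K) * s = t * g := by
  obtain ⟨a, u, φ, ha, hφu, hφa, hs'⟩ := exists_transvection_data s hs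
  obtain ⟨b, v, ψ, hb, hψv, hψb, ht'⟩ := exists_transvection_data t ht
  have key : ∀ {a u : Fin n → K} {φ : (Fin n → K) →ₗ[K] K}, a ≠ 0 → φ u = 1 → φ a = 0 →
      LinearIndependent K ![u, a] := by
    intro a u φ ha hu haφ
    refine linearIndependent_fin2.mpr ⟨ha, fun c hc => ?_⟩
    simp only [Matrix.cons_val_zero, Matrix.cons_val_one] at hc
    have := congrArg φ hc
    rw [map_smul, haφ, smul_zero, hu] at this
    exact zero_ne_one this
  have h1 := key ha hφu hφa
  have h2 := key hb hψv hψb
  let B := Module.Basis.span h1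
  let B' := Module.Basis.span h2
  obtain ⟨g, hg⟩ := exists_extend_equiv _ _ (B.equiv B' (Equiv.refl _))
  have hgu : g u = v := by
    have := hg (B 0)
    rw [Module.Basis.equiv_apply, Module.Basis.span_apply, Module.Basis.span_apply] at this
    simpa using this
  have hga : g a = b := by
    have := hg (B 1)
    rw [Module.Basis.equiv_apply, Module.Basis.span_apply, Module.Basis.span_apply] at this
    simpa using this
  let χ : (Fin n → K) →ₗ[K] K := ψ.comp g.toLinearMap
  have hχu : χ u = 1 := by simp [χ, hgu, hψv]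
  let S : (Fin n → K) ≃ₗ[K] (Fin n → K) :=
    { toFun := fun x => x + (φ x - χ x) • u
      invFun := fun y => y - (φ y - χ y) • u
      map_add' := fun x y => by simp only [map_add]; module
      map_smul' := fun c x => by simp only [map_smul, RingHom.id_apply, smul_eq_mul]; module
      left_inv := fun x => by
        simp only [map_add, map_smul, hφu, hχu, smul_eq_mul]; module
      right_inv := fun y => by
        simp only [map_sub, map_smul, hφu, hχu, smul_eq_mul]; module }
  have hSa : S a = a := by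
    show a + (φ a - χ a) • u = a
    simp [χ, hga, hψb, hφa]
  let T := S ≪≫ₗ g
  have hT : ∀ x, ψ (T x) = φ x := fun x => by
    show χ (x + (φ x - χ x) • u) = φ x
    rw [map_add, map_smul, hχu, smul_eq_mul]; ring
  refine ⟨Matrix.GeneralLinearGroup.toLin.symm (LinearMap.GeneralLinearGroup.ofLinearEquiv T), ?_⟩
  have hM : ∀ x, ((Matrix.GeneralLinearGroup.toLin.symm
      (LinearMap.GeneralLinearGroup.ofLinearEquiv T) : GL (Fin n) K) : Matrix (Fin n) (Fin n) K).mulVec x
        = T x := by
    intro x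
    have : ∀ A : GL (Fin n) K, (A : Matrix (Fin n) (Fin n) K).mulVec x =
        (Matrix.GeneralLinearGroup.toLin A : (Fin n → K) →ₗ[K] (Fin n → K)) x := fun A => by simp
    rw [this, MulEquiv.apply_symm_apply]
    rfl
  refine Matrix.ext_iff_mulVec.mpr fun x => ?_
  rw [← Matrix.mulVec_mulVec, ← Matrix.mulVec_mulVec, hM, hM, hs', ht', map_add, map_smul, hT,
    show T a = g (S a) from rfl, hSa, hga]

variable [Fintype K] {q : ℕ}

/-- A quasi-reflection of the unitary group with prescribed determinant, commuting with `s`. -/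
theorem exists_quasiReflection (hK : Fintype.card K = q ^ 2) (w : Fin n → K)
    (hw : Cfsg.hermForm n K q w w ≠ 0) (d : K) (hd : d * d ^ q = 1) :
    ∃ r : GL (Fin n) K, r ∈ Cfsg.GU n K q ∧ (r : Matrix (Fin n) (Fin n) K).det = d ∧
      ∀ s ∈ Cfsg.GU n K q, (s : Matrix (Fin n) (Fin n) K).mulVec w = w → Commute s r := by
  obtain ⟨σ, hσ, hσ2, -⟩ := CfsgLib.Conj.exists_frob hK
  set hh := Cfsg.hermForm n K q w w
  set c := (d - 1) / hh
  let M : Matrix (Fin n) (Fin n) K := 1 + c • Matrix.vecMulVec w (σ ∘ w)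
  have hherm : ∀ x y : Fin n → K, Cfsg.hermForm n K q x y = x ⬝ᵥ (σ ∘ y) := fun x y => by
    simp [Cfsg.hermForm, dotProduct, hσ]
  have hMx : ∀ x, M.mulVec x = x + (c * Cfsg.hermForm n K q x w) • w := fun x => by
    simp only [M, Matrix.add_mulVec, Matrix.one_mulVec, Matrix.smul_mulVec, Matrix.vecMulVec_mulVec,
      op_smul_eq_smul, smul_smul, hherm, dotProduct_comm (σ ∘ w) x]
  have hdet : M.det = d := by
    simp only [M]
    rw [← Matrix.smul_vecMulVec, Matrix.vecMulVec_eq Unit,
      Matrix.det_one_add_replicateCol_mul_replicateRow, dotProduct_smul, dotProduct_comm (σ ∘ w) w,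
      ← hherm, smul_eq_mul]
    show 1 + c * hh = d
    rw [div_mul_cancel₀ _ hw]; ring
  have hd0 : d ≠ 0 := fun h => by simp [h] at hd
  have hsym : ∀ x y, σ (Cfsg.hermForm n K q x y) = Cfsg.hermForm n K q y x := fun x y => by
    simp only [Cfsg.hermForm, map_sum, map_mul, ← hσ, hσ2]
    exact Finset.sum_congr rfl fun i _ => mul_comm _ _
  let r : GL (Fin n) K := Matrix.GeneralLinearGroup.mkOfDetNeZero M (hdet ▸ hd0)
  refine ⟨r, fun x y => ?_, hdet, fun s hs hsw => ?_⟩
  · show Cfsg.hermForm n K q (M.mulVec x) (M.mulVec y) = _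
    rw [hMx, hMx]
    simp only [hherm, add_dotProduct, smul_dotProduct, smul_eq_mul,
      show ∀ (z : Fin n → K) (a : K), σ ∘ (y + a • z) = σ ∘ y + σ a • (σ ∘ z) from
        fun z a => funext fun i => by simp, dotProduct_add, dotProduct_smul]
    simp only [← hherm, map_mul, hsym]
    have hc : c + σ c + c * σ c * hh = 0 := by
      have hσh : σ hh = hh := hsym w w
      simp only [c, map_div₀, map_sub, map_one, hσh, hσ d]
      field_simp
      linear_combination hd
    linear_combination (Cfsg.hermForm n K q x w * Cfsg.hermForm n K q w y) * hc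
  · refine Units.ext (Matrix.ext_iff_mulVec.mpr fun x => ?_)
    show ((s : Matrix (Fin n) (Fin n) K) * M).mulVec x = (M * (s : Matrix (Fin n) (Fin n) K)).mulVec x
    rw [← Matrix.mulVec_mulVec, ← Matrix.mulVec_mulVec, hMx, hMx, Matrix.mulVec_add,
      Matrix.mulVec_smul, hsw]
    have h := hs x w
    change Cfsg.hermForm n K q ((s : Matrix (Fin n) (Fin n) K).mulVec x)
      ((s : Matrix (Fin n) (Fin n) K).mulVec w) = _ at h
    rw [hsw] at h
    rw [h]

/-- In dimension at least three a transvection fixes an anisotropic vector. -/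
theorem exists_fixed_anisotropic (hK : Fintype.card K = q ^ 2) (hn : 3 ≤ n)
    (s : Matrix (Fin n) (Fin n) K) (hs : Cfsg.IsTransvection s) :
    ∃ w, s.mulVec w = w ∧ Cfsg.hermForm n K q w w ≠ 0 := by
  obtain ⟨σ, hσ, hσ2, θ, hθ⟩ := CfsgLib.Conj.exists_frob hK
  obtain ⟨a, u, φ, -, -, -, hs'⟩ := exists_transvection_data s hs
  by_contra! h
  replace h : ∀ w, φ w = 0 → Cfsg.hermForm n K q w w = 0 := fun w hw =>
    h w (by rw [hs', hw, zero_smul, add_zero])
  have hherm : ∀ x y : Fin n → K, Cfsg.hermForm n K q x y = x ⬝ᵥ (σ ∘ y) := fun x y => by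
    simp [Cfsg.hermForm, dotProduct, hσ]
  let e : Fin n → (Fin n → K) := fun i => Pi.single i 1
  have hee : ∀ i j, Cfsg.hermForm n K q (e i) (e j) = if i = j then 1 else 0 := fun i j => by
    rw [hherm, show σ ∘ e j = e j from funext fun k => by
      by_cases hk : k = j
      · subst hk; simp [e]
      · simp [e, hk]]
    simp [e, Pi.single_apply, eq_comm]
  have hb : ∀ i, φ (e i) ≠ 0 := fun i hi => by
    have := h (e i) hi
    rw [hee, if_pos rfl] at this
    exact one_ne_zero this
  -- the form vanishes on the hyperplane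
  have hpol : ∀ x y, φ x = 0 → φ y = 0 → Cfsg.hermForm n K q x y = 0 := by
    intro x y hx hy
    have key : ∀ c : K, c * Cfsg.hermForm n K q x y + σ c * Cfsg.hermForm n K q y x = 0 := by
      intro c
      have h1 := h (c • x + y) (by rw [map_add, map_smul, hx, hy, smul_zero, add_zero])
      have h2 := h x hx
      have h3 := h y hy
      simp only [hherm] at h1 h2 h3 ⊢
      rw [show σ ∘ (c • x + y) = σ c • (σ ∘ x) + σ ∘ y from funext fun i => by simp] at h1
      simp only [add_dotProduct, smul_dotProduct, dotProduct_add, dotProduct_smul, smul_eq_mul,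
        h2, h3] at h1
      linear_combination h1
    have k1 := key 1
    have k2 := key θ
    rw [map_one] at k1
    have : (θ - σ θ) * Cfsg.hermForm n K q x y = 0 := by linear_combination k2 - σ θ * k1
    exact (mul_eq_zero.mp this).resolve_left (sub_ne_zero.mpr (Ne.symm hθ))
  let i : Fin n := ⟨0, by omega⟩
  let j : Fin n := ⟨1, by omega⟩
  let k : Fin n := ⟨2, by omega⟩
  have hw : ∀ j, φ (φ (e j) • e i - φ (e i) • e j) = 0 := fun j => by
    rw [map_sub, map_smul, map_smul, smul_eq_mul, smul_eq_mul, mul_comm, sub_self]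
  have h1 := hpol _ _ (hw j) (hw k)
  simp only [hherm] at h1 hee
  rw [show σ ∘ (φ (e k) • e i - φ (e i) • e k) = σ (φ (e k)) • (σ ∘ e i) - σ (φ (e i)) • (σ ∘ e k)
    from funext fun x => by simp] at h1
  simp only [sub_dotProduct, smul_dotProduct, dotProduct_sub, dotProduct_smul, hee, smul_eq_mul] at h1
  simp [i, j, k, Fin.ext_iff] at h1
  rcases h1 with h1 | h1 <;> exact hb _ h1

end CfsgLib.UnitTransv
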