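import Cfsg.Prelude.Def_LieClassical
import Cfsg.Agent.Lib.Conj.Unitary
import Cfsg.Agent.Lib.Conj.RegularNilpotent
import Cfsg.Agent.S2578

/-!
Regular unipotent elements of the unitary group.
-/

set_option autoImplicit false

namespace CfsgLib.UnitTransv

open Matrix

variable {K : Type*} [Field K] [Fintype K] {n : ℕ} (φ : K →+* K)

/-- An involutory field endomorphism preserves ranks. -/
theorem rank_map_invol (hφ : ∀ x, φ (φ x) = x) (N : Matrix (Fin n) (Fin n) K) : (N.map φ).rank = N.rank := by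
  classical
  have himg : Set.range (N.map φ).mulVec = (fun v : Fin n → K => φ ∘ v) '' Set.range N.mulVec := by
    ext y
    constructor
    · rintro ⟨v, rfl⟩
      refine ⟨N.mulVec (φ ∘ v), ⟨_, rfl⟩, funext fun i => ?_⟩
      show φ (N.mulVec (φ ∘ v) i) = _
      rw [RingHom.map_mulVec, show φ ∘ φ ∘ v = v from funext fun j => hφ (v j)]
    · rintro ⟨_, ⟨v, rfl⟩, rfl⟩
      exact ⟨φ ∘ v, funext fun i => (RingHom.map_mulVec φ N v i).symm⟩
  have hinj : Function.Injective (fun v : Fin n → K => φ ∘ v) := fun v w h =>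
    funext fun i => φ.injective (congrFun h i)
  have h := Nat.card_image_of_injective hinj (Set.range N.mulVec)
  rw [← himg] at h
  have key : ∀ A : Matrix (Fin n) (Fin n) K, Nat.card (Set.range A.mulVec) = Nat.card K ^ A.rank := fun A => by
    show Nat.card (LinearMap.range A.mulVecLin) = _
    exact Module.natCard_eq_pow_finrank (K := K)
  rw [key, key] at h
  exact Nat.pow_right_injective Finite.one_lt_card h

/-- The unitary group contains a regular unipotent element. -/
theorem exists_regular_unitary (hφ : ∀ x, φ (φ x) = x) (hw : ∃ w, φ w ≠ w) (hn : 1 ≤ n) :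
    ∃ (u : GL (Fin n) K) (N : Matrix (Fin n) (Fin n) K), CfsgLib.Conj.IsRegNilp N ∧
      (u : Matrix (Fin n) (Fin n) K) = 1 + N ∧
      CfsgLib.Conj.conjT (n := n) φ (u : Matrix (Fin n) (Fin n) K) * u = 1 := by
  classical
  obtain ⟨N₀, hN₀⟩ := Cfsg.Agent.S2578.exists_regNilp (F := K) (n := n) hn
  have hnil0 : IsNilpotent N₀ := ⟨_, hN₀.pow_card⟩
  obtain ⟨A, hA⟩ := hnil0.isUnit_one_add
  set ct := CfsgLib.Conj.conjT (n := n) φ
  let B : (Matrix (Fin n) (Fin n) K)ˣ := ⟨ct (↑A⁻¹), ct ↑A,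
    CfsgLib.Conj.conjT_units φ A, by
      rw [← CfsgLib.Conj.conjT_mul, ← Units.val_mul, inv_mul_cancel, Units.val_one, CfsgLib.Conj.conjT_one]⟩
  -- `B - 1` is regular nilpotent
  have hB : CfsgLib.Conj.IsRegNilp ((B : Matrix (Fin n) (Fin n) K) - 1) := by
    have e1 : (B : Matrix (Fin n) (Fin n) K) - 1 = -((B : Matrix (Fin n) (Fin n) K) * ct N₀) := by
      have h1 : (B : Matrix (Fin n) (Fin n) K) * ct (A : Matrix (Fin n) (Fin n) K) = 1 := B.mul_inv
      rw [hA, map_add, CfsgLib.Conj.conjT_one, mul_add, mul_one] at h1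
      rw [eq_neg_iff_add_eq_zero, sub_add_eq_add_sub, h1, sub_self]
    have hc : Commute (B : Matrix (Fin n) (Fin n) K) (ct N₀) := by
      have h1 : Commute (B : Matrix (Fin n) (Fin n) K) (ct (A : Matrix (Fin n) (Fin n) K)) := by
        show _ = _
        rw [show (B : Matrix (Fin n) (Fin n) K) * ct A = 1 from B.mul_inv,
          show ct (A : Matrix (Fin n) (Fin n) K) * B = 1 from B.inv_mul]
      rw [hA, map_add, CfsgLib.Conj.conjT_one] at h1
      simpa using h1.sub_right (Commute.one_right (B : Matrix (Fin n) (Fin n) K))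
    have hpow : ∀ k : ℕ, ct (N₀ ^ k) = ct N₀ ^ k := fun k => by
      induction k with
      | zero => simpa using CfsgLib.Conj.conjT_one φ
      | succ k ih => rw [pow_succ', CfsgLib.Conj.conjT_mul, ih, ← pow_succ]
    refine ⟨?_, ?_, hN₀.card_pos⟩
    · rw [e1, neg_pow, hc.mul_pow, ← hpow, hN₀.pow_card, map_zero, mul_zero, mul_zero]
    · rw [e1, ← neg_mul, Matrix.rank_mul_eq_right_of_isUnit_det _ _
        ((Matrix.isUnit_iff_isUnit_det _).mp (B.isUnit.neg))]
      show ((N₀.map φ).transpose).rank = _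
      rw [Matrix.rank_transpose, ← hN₀.rank_eq]
      exact rank_map_invol φ hφ N₀
  obtain ⟨g, hg⟩ := hN₀.exists_conj hB
  have hgA : (g : Matrix (Fin n) (Fin n) K) * A = (B : Matrix (Fin n) (Fin n) K) * g := by
    rw [hA, mul_add, hg, sub_mul, mul_one, one_mul]; abel
  obtain ⟨h, hh⟩ := CfsgLib.Conj.exists_unitary_similar φ hφ hw A g (by
    rw [mul_assoc, hgA, ← mul_assoc,
      show CfsgLib.Conj.conjT (n := n) φ (A : Matrix (Fin n) (Fin n) K) * B = 1 from B.inv_mul, one_mul])
  refine ⟨h * A * h⁻¹, (h : Matrix (Fin n) (Fin n) K) * N₀ * (↑h⁻¹ : Matrix (Fin n) (Fin n) K), ⟨?_, ?_, hN₀.card_pos⟩, ?_, hh⟩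
  · rw [Units.conj_pow, hN₀.pow_card, mul_zero, zero_mul]
  · rw [Matrix.rank_mul_eq_left_of_isUnit_det _ _ ((Matrix.isUnit_iff_isUnit_det _).mp (Units.isUnit _)),
      Matrix.rank_mul_eq_right_of_isUnit_det _ _ ((Matrix.isUnit_iff_isUnit_det _).mp (Units.isUnit _)),
      hN₀.rank_eq]
  · rw [Units.val_mul, Units.val_mul, hA, mul_add, add_mul, mul_one, Units.mul_inv]

/-- A unitary element commuting with a regular nilpotent has an eigenvalue of norm one, whose power is the determinant. -/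
theorem exists_det_eq_pow (hn : 1 ≤ n) {N : Matrix (Fin n) (Fin n) K} (hN : CfsgLib.Conj.IsRegNilp N)
    (a : Matrix (Fin n) (Fin n) K) (ha : CfsgLib.Conj.conjT (n := n) φ a * a = 1) (haN : Commute a N) :
    ∃ c : K, φ c * c = 1 ∧ a.det = c ^ n := by
  classical
  set ct := CfsgLib.Conj.conjT (n := n) φ
  have hnil : IsNilpotent N := ⟨_, hN.pow_card⟩
  obtain ⟨c, hc⟩ := hN.exists_sum_of_commute haN
  let i₀ : Fin (Fintype.card (Fin n)) := ⟨0, by simp; omega⟩
  set M := ∑ i ∈ Finset.univ.erase i₀, c i • N ^ (i : ℕ)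
  have hM : IsNilpotent M := by
    refine Commute.isNilpotent_sum (fun i hi => ?_) (fun i j _ _ => ((Commute.refl N).pow_pow _ _).smul_left _ |>.smul_right _)
    have hi0 : (i : ℕ) ≠ 0 := fun e => (Finset.mem_erase.mp hi).1 (Fin.ext e)
    exact (hnil.pow_of_pos hi0).smul _
  have hsum : c i₀ • (1 : Matrix (Fin n) (Fin n) K) + M = a := by
    rw [hc, ← Finset.add_sum_erase Finset.univ (fun i => c i • N ^ (i : ℕ)) (Finset.mem_univ i₀)]
    simp [i₀, M]
  refine ⟨c i₀, ?_, ?_⟩
  swap
  · have := CfsgLib.Conj.det_smul_one_add_nilpotent hM (c i₀)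
    rwa [hsum, Fintype.card_fin] at this
  have hscal : ∀ x : K, ct (x • 1) = φ x • 1 := fun x => by
    rw [← Algebra.algebraMap_eq_smul_one, ← Algebra.algebraMap_eq_smul_one]
    exact CfsgLib.Conj.conjT_algebraMap φ x
  have hcta : ct a = φ (c i₀) • 1 + ct M := by rw [← hsum, map_add, hscal]
  have hcomm : Commute (ct a) a := by
    show ct a * a = a * ct a
    rw [ha, mul_eq_one_comm.mp ha]
  have hMM : Commute (ct M) M := by
    have h1 : Commute (φ (c i₀) • 1 + ct M) (c i₀ • 1 + M) := by rw [← hcta, hsum]; exact hcomm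
    have h2 := (h1.sub_left ((Commute.one_left (c i₀ • 1 + M)).smul_left (φ (c i₀)))).sub_right
      ((Commute.one_right _).smul_right (c i₀))
    simpa using h2
  have hM' : IsNilpotent (ct M) := by
    obtain ⟨k, hk⟩ := hM
    have hpow : ∀ k : ℕ, ct (M ^ k) = ct M ^ k := fun k => by
      induction k with
      | zero => simpa using CfsgLib.Conj.conjT_one φ
      | succ k ih => rw [pow_succ', CfsgLib.Conj.conjT_mul, ih, ← pow_succ]
    exact ⟨k, by rw [← hpow, hk, map_zero]⟩
  have hnilsum : IsNilpotent (φ (c i₀) • M + c i₀ • ct M + ct M * M) := by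
    refine Commute.isNilpotent_add ?_ (Commute.isNilpotent_add ?_ (hM.smul _) (hM'.smul _)) (hMM.isNilpotent_mul_left hM)
    · exact Commute.add_left ((hMM.symm.mul_right (Commute.refl M)).smul_left _)
        (((Commute.refl (ct M)).mul_right hMM).smul_left _)
    · exact (hMM.symm.smul_left _).smul_right _
  have heq : φ (c i₀) • M + c i₀ • ct M + ct M * M =
      algebraMap K (Matrix (Fin n) (Fin n) K) (1 - φ (c i₀) * c i₀) := by
    have h1 := ha
    rw [hcta, ← hsum] at h1
    simp only [add_mul, mul_add, Algebra.smul_mul_assoc, Algebra.mul_smul_comm, one_mul, mul_one, smul_add, smul_smul] at h1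
    rw [Algebra.algebraMap_eq_smul_one, sub_smul, one_smul, eq_sub_iff_add_eq]
    conv_rhs => rw [← h1]
    rw [mul_comm (φ (c i₀)) (c i₀)]
    abel
  rw [heq] at hnilsum
  haveI : Nonempty (Fin n) := ⟨⟨0, by omega⟩⟩
  have h0 := IsNilpotent.eq_zero ((IsNilpotent.map_iff (algebraMap K (Matrix (Fin n) (Fin n) K)).injective).mp hnilsum)
  exact (sub_eq_zero.mp h0).symm

end CfsgLib.UnitTransv
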